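import Groth.Agent.S6006
import Groth.Agent.Lib.RedPts.Ga
import Groth.Agent.Lib.GrpSchField.Points
import Groth.Agent.Lib.AlgSp.FieldBase
import Groth.Agent.Lib.LocProp.Stalk
import Groth.Prelude.Def_AlgGrp
import Mathlib

/-!
# Unirationality of an extension by the additive group
-/

set_option autoImplicit false
set_option linter.all false

universe u

open AlgebraicGeometry CategoryTheory CategoryTheory.Limits MonoidalCategory CartesianMonoidalCategory MonObj

noncomputable section

namespace GrothLib.UnirGaExt24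

set_option backward.isDefEq.respectTransparency false
set_option synthInstance.maxHeartbeats 80000
set_option maxHeartbeats 800000

variable {κ : Type u} [Field κ]


variable {G Q : Over (Spec (CommRingCat.of κ))} [GrpObj G] [GrpObj Q] (q : G ⟶ Q) [IsMonHom q]
  (i : Red.Ga (Spec (CommRingCat.of κ)) ⟶ G) [IsMonHom i]

/-- A scheme over the quotient, over the ground field. -/
abbrev flatten (T : Over Q.left) : Over (Spec (CommRingCat.of κ)) := (Over.map Q.hom).obj T

/-- A point of the torsor as a point of the group. -/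
def ptG {T : Over Q.left} (x : T ⟶ Over.mk q.left) : flatten T ⟶ G :=
  Over.homMk x.left (by
    show x.left ≫ G.hom = T.hom ≫ Q.hom
    rw [← Over.w q, ← Category.assoc]
    exact congrArg (· ≫ Q.hom) (Over.w x))

/-- Transport of a point of the additive group to the ground field. -/
def down {T : Over Q.left} (a : T ⟶ Red.Ga Q.left) : flatten T ⟶ Red.Ga (Spec (CommRingCat.of κ)) :=
  RedPts.gaPt (S := Spec (CommRingCat.of κ)) (T := flatten T) (show Γ(T.left, ⊤) from Red.gaFn a)

/-- Transport of a point of the additive group to the quotient. -/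
def up {T : Over Q.left} (m : flatten T ⟶ Red.Ga (Spec (CommRingCat.of κ))) : T ⟶ Red.Ga Q.left :=
  RedPts.gaPt (S := Q.left) (T := T) (show Γ((flatten T).left, ⊤) from Red.gaFn m)

theorem gaFn_down {T : Over Q.left} (a : T ⟶ Red.Ga Q.left) :
    Red.gaFn (S := Spec (CommRingCat.of κ)) (X := flatten T) (down a) = Red.gaFn (S := Q.left) (X := T) a :=
  RedPts.gaFn_gaPt (S := Spec (CommRingCat.of κ)) (T := flatten T) _

theorem down_up {T : Over Q.left} (m : flatten T ⟶ Red.Ga (Spec (CommRingCat.of κ))) : down (up m) = m :=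
  RedPts.gaFn_injective ((gaFn_down (up m)).trans (RedPts.gaFn_gaPt (S := Q.left) (T := T) _))

/-- A point of the additive group as a point of the group. -/
def ptA {T : Over Q.left} (a : T ⟶ Red.Ga Q.left) : flatten T ⟶ G :=
  down a ≫ i

/-- The structure map as a point of the quotient. -/
def ptQ (T : Over Q.left) : flatten T ⟶ Q := Over.homMk T.hom rfl

theorem ptG_q {T : Over Q.left} (x : T ⟶ Over.mk q.left) : ptG q x ≫ q = ptQ T :=
  Over.OverMorphism.ext (Over.w x)

theorem ptG_comp {T T' : Over Q.left} (g : T' ⟶ T) (x : T ⟶ Over.mk q.left) :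
    ptG q (g ≫ x) = (Over.map Q.hom).map g ≫ ptG q x :=
  Over.OverMorphism.ext rfl

theorem ptA_comp {T T' : Over Q.left} (g : T' ⟶ T) (a : T ⟶ Red.Ga Q.left) :
    ptA i (g ≫ a) = (Over.map Q.hom).map g ≫ ptA i a := by
  rw [ptA, ptA, ← Category.assoc]
  congr 1
  apply RedPts.gaFn_injective
  rw [gaFn_down, RedPts.gaFn_comp, RedPts.gaFn_comp, gaFn_down]
  rfl

theorem ptA_mul {T : Over Q.left} (a b : T ⟶ Red.Ga Q.left) : ptA i (a * b) = ptA i a * ptA i b := by
  have h : down (a * b) = down a * down b :=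
    RedPts.gaFn_injective ((gaFn_down _).trans ((RedPts.gaFn_mul a b).trans
      (((RedPts.gaFn_mul (down a) (down b)).trans
        (congrArg₂ (· + ·) (gaFn_down a) (gaFn_down b))).symm)))
  exact (congrArg (· ≫ i) h).trans (MonObj.mul_comp (down a) (down b) i)

theorem ptA_one (T : Over Q.left) : ptA i (1 : T ⟶ Red.Ga Q.left) = 1 := by
  have h : down (1 : T ⟶ Red.Ga Q.left) = 1 :=
    RedPts.gaFn_injective ((gaFn_down _).trans ((RedPts.gaFn_one (S := Q.left) (T := T)).trans
      (RedPts.gaFn_one (S := Spec (CommRingCat.of κ)) (T := flatten T)).symm))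
  rw [ptA, h, MonObj.one_comp]

variable {i}

theorem ptA_q (hker : AlgGrp.IsKernel i q) {T : Over Q.left} (a : T ⟶ Red.Ga Q.left) : ptA i a ≫ q = 1 := by
  rw [ptA, Category.assoc, GrpSchField.comp_eq_one hker, MonObj.comp_one]

theorem ptA_injective (hker : AlgGrp.IsKernel i q) {T : Over Q.left} {a b : T ⟶ Red.Ga Q.left}
    (h : ptA i a = ptA i b) : a = b := by
  haveI := GrpSchField.mono_of_kernel hker
  have e := congrArg Red.gaFn ((cancel_mono i).1 h)
  rw [gaFn_down, gaFn_down] at e
  exact RedPts.gaFn_injective e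

/-- The translation morphism. -/
def actHom (hker : AlgGrp.IsKernel i q) : Red.Ga Q.left ⊗ Over.mk q.left ⟶ Over.mk q.left :=
  Over.homMk (ptA i (fst (Red.Ga Q.left) (Over.mk q.left)) * ptG q (snd (Red.Ga Q.left) (Over.mk q.left))).left (by
    show _ ≫ q.left = _
    rw [← Over.comp_left, MonObj.mul_comp, ptA_q q hker, ptG_q, _root_.one_mul]
    rfl)

theorem ptG_lift_act (hker : AlgGrp.IsKernel i q) {T : Over Q.left} (a : T ⟶ Red.Ga Q.left)
    (x : T ⟶ Over.mk q.left) : ptG q (lift a x ≫ actHom q hker) = ptA i a * ptG q x := by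
  rw [ptG_comp]
  have e : ptG q (actHom q hker) =
      ptA i (fst (Red.Ga Q.left) (Over.mk q.left)) * ptG q (snd (Red.Ga Q.left) (Over.mk q.left)) :=
    Over.OverMorphism.ext rfl
  rw [e, MonObj.comp_mul, ← ptA_comp, ← ptG_comp, lift_fst, lift_snd]

theorem ptG_injective {T : Over Q.left} {x y : T ⟶ Over.mk q.left} (h : ptG q x = ptG q y) : x = y :=
  Over.OverMorphism.ext (congrArg CommaMorphism.left h :)

/-- The translation action. -/
def action (hker : AlgGrp.IsKernel i q) : AlgGrp.Action (Red.Ga Q.left) (Over.mk q.left) where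
  act := actHom q hker
  one_act := by
    apply ptG_injective q
    have e : η[Red.Ga Q.left] ▷ Over.mk q.left =
        lift (1 : 𝟙_ (Over Q.left) ⊗ Over.mk q.left ⟶ Red.Ga Q.left)
          (snd (𝟙_ (Over Q.left)) (Over.mk q.left)) := by
      apply CartesianMonoidalCategory.hom_ext
      · rw [whiskerRight_fst, lift_fst, Hom.one_def]
        congr 1
      · rw [whiskerRight_snd, lift_snd]
    rw [e, ptG_lift_act, ptA_one, _root_.one_mul, leftUnitor_hom]
  mul_act := by
    apply ptG_injective q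
    have e1 : μ[Red.Ga Q.left] ▷ Over.mk q.left =
        lift ((fst _ _ ≫ fst _ _) * (fst _ _ ≫ snd _ _)) (snd _ _) := by
      apply CartesianMonoidalCategory.hom_ext
      · rw [whiskerRight_fst, lift_fst, Hom.mul_def, ← comp_lift_assoc, lift_fst_snd, Category.id_comp]
      · rw [whiskerRight_snd, lift_snd]
    have e2 : (α_ (Red.Ga Q.left) (Red.Ga Q.left) (Over.mk q.left)).hom ≫ (Red.Ga Q.left ◁ actHom q hker) =
        lift (fst _ _ ≫ fst _ _) (lift (fst _ _ ≫ snd _ _) (snd _ _) ≫ actHom q hker) := by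
      apply CartesianMonoidalCategory.hom_ext
      · rw [Category.assoc, whiskerLeft_fst, associator_hom_fst, lift_fst]
      · rw [Category.assoc, whiskerLeft_snd, lift_snd, ← Category.assoc]
        congr 1
        apply CartesianMonoidalCategory.hom_ext
        · rw [Category.assoc, associator_hom_snd_fst, lift_fst]
        · rw [Category.assoc, associator_hom_snd_snd, lift_snd]
    rw [e1, ptG_lift_act, reassoc_of% e2, ptG_lift_act, ptG_lift_act, ptA_mul, _root_.mul_assoc]

variable [LocallyOfFiniteType G.hom] [LocallyOfFiniteType Q.hom] [Flat q.left] [Surjective q.left]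

/-- The quotient map is a torsor under the additive group. -/
theorem isTorsor (hker : AlgGrp.IsKernel i q) :
    NonAbH1.IsTorsorFor Scheme.fpqcPrecoverage (action q hker) := by
  refine ⟨GrpSchField.isIso_of_points _ (fun T b => ?_) (fun T a a' h => ?_), ?_⟩
  · let x := b ≫ fst (Over.mk q.left) (Over.mk q.left)
    let y := b ≫ snd (Over.mk q.left) (Over.mk q.left)
    obtain ⟨n, hn⟩ := GrpSchField.exists_lift_of_comp_eq_one hker (ptG q x * (ptG q y)⁻¹) (by
      rw [MonObj.mul_comp, GrpObj.inv_comp, ptG_q, ptG_q, mul_inv_cancel])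
    refine ⟨lift (up n) y, ?_⟩
    have hA : ptA i (up n) = n ≫ i := by rw [ptA, down_up]
    apply CartesianMonoidalCategory.hom_ext
    · rw [Category.assoc, lift_fst]
      apply ptG_injective q
      show ptG q (lift (up n) y ≫ actHom q hker) = _
      rw [ptG_lift_act, hA, hn, inv_mul_cancel_right]
    · rw [Category.assoc, lift_snd, lift_snd]
  · have h1 := congrArg (· ≫ fst _ _) h
    have h2 := congrArg (· ≫ snd _ _) h
    simp only [Category.assoc, lift_fst, lift_snd] at h1 h2
    apply CartesianMonoidalCategory.hom_ext _ _ ?_ h2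
    apply ptA_injective q hker
    have ea : ∀ c : T ⟶ Red.Ga Q.left ⊗ Over.mk q.left,
        ptG q (c ≫ (action q hker).act) = ptA i (c ≫ fst _ _) * ptG q (c ≫ snd _ _) := fun c => by
      rw [← ptG_lift_act q hker, ← comp_lift, lift_fst_snd, Category.comp_id]
      rfl
    have h3 := congrArg (ptG q) h1
    rw [ea, ea, h2] at h3
    exact mul_right_cancel h3
  · haveI : LocallyOfFiniteType (q.left ≫ Q.hom) := by rw [Over.w q]; infer_instance
    haveI : LocallyOfFiniteType q.left := locallyOfFiniteType_of_comp q.left Q.hom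
    haveI : IsLocallyNoetherian Q.left := LocallyOfFiniteType.isLocallyNoetherian Q.hom
    haveI : LocallyOfFinitePresentation q.left :=
      GrothLib.LocProp.locallyOfFinitePresentation_of_isLocallyNoetherian _
    refine ⟨Presieve.singleton q.left, Scheme.fppfPrecoverage_le_fpqcPrecoverage _
      q.left.singleton_mem_fppfPrecoverage, ?_⟩
    rintro S' g ⟨⟩
    exact ⟨𝟙 _, Category.id_comp q.left⟩


/-- An extension of a unirational group by the additive group is unirational. -/
theorem unirational (hker : AlgGrp.IsKernel i q) (n : ℕ)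
    (V : (AffineSpace (ULift.{u} (Fin n)) (Spec (CommRingCat.of κ))).Opens) (ψ : (V : Scheme.{u}) ⟶ Q.left)
    (hV : (V : Set (AffineSpace (ULift.{u} (Fin n)) (Spec (CommRingCat.of κ)))).Nonempty) (hψ : DenseRange ψ.base)
    (hψ' : ψ ≫ Q.hom = V.ι ≫ (AffineSpace (ULift.{u} (Fin n)) (Spec (CommRingCat.of κ)) ↘ (Spec (CommRingCat.of κ))))
    (hirr : IrreducibleSpace ↥(AffineSpace (ULift.{u} (Fin n)) (Spec (CommRingCat.of κ)))) :
    ∃ (m : ℕ) (W : (AffineSpace (ULift.{u} (Fin m)) (Spec (CommRingCat.of κ))).Opens) (φ : (W : Scheme.{u}) ⟶ G.left),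
      (W : Set (AffineSpace (ULift.{u} (Fin m)) (Spec (CommRingCat.of κ)))).Nonempty ∧ DenseRange φ.base ∧
      φ ≫ G.hom = W.ι ≫ (AffineSpace (ULift.{u} (Fin m)) (Spec (CommRingCat.of κ)) ↘ (Spec (CommRingCat.of κ))) := by
  obtain ⟨v₀, hv₀⟩ := hV
  obtain ⟨_, ⟨U', hU, rfl⟩, hvU, -⟩ :=
    Q.left.isBasis_affineOpens.exists_subset_of_mem_open (Set.mem_univ (ψ ⟨v₀, hv₀⟩)) isOpen_univ
  obtain ⟨U, rfl⟩ : ∃ U : Q.left.Opens, U = U' := ⟨U', rfl⟩
  obtain ⟨s, hs⟩ := Groth.Agent.S6006.exists_section (isTorsor q hker) U hU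
  change (U : Scheme.{u}) ⟶ G.left at s
  change s ≫ q.left = U.ι at hs
  -- the open set of the base
  let V' : (AffineSpace (ULift.{u} (Fin n)) (Spec (CommRingCat.of κ))).Opens := V.ι ''ᵁ (ψ ⁻¹ᵁ U)
  have hV'le : V' ≤ V := V.ι_image_le _
  let j : (V' : Scheme.{u}) ⟶ (V : Scheme.{u}) := Scheme.homOfLE _ hV'le
  have hjι : j ≫ V.ι = V'.ι := Scheme.homOfLE_ι _ hV'le
  have hjmem : ∀ x : (V' : Scheme.{u}), ψ (j x) ∈ U := fun x => by
    obtain ⟨w, hw, hwx⟩ := x.2
    have : j x = w := V.ι.isOpenEmbedding.injective (by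
      rw [← Scheme.Hom.comp_apply, hjι]
      exact hwx.symm)
    rw [this]
    exact hw
  have hrange : Set.range (j ≫ ψ) ⊆ Set.range U.ι := by
    rintro _ ⟨x, rfl⟩
    rw [Scheme.Opens.range_ι]
    exact hjmem x
  let l : (V' : Scheme.{u}) ⟶ (U : Scheme.{u}) := IsOpenImmersion.lift U.ι (j ≫ ψ) hrange
  have hl : l ≫ U.ι = j ≫ ψ := IsOpenImmersion.lift_fac _ _ _
  -- the source
  let r : AffineSpace (ULift.{u} (Fin (n + 1))) (Spec (CommRingCat.of κ)) ⟶ AffineSpace (ULift.{u} (Fin n)) (Spec (CommRingCat.of κ)) :=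
    AffineSpace.reindex (fun x : ULift.{u} (Fin n) => (⟨x.down.castSucc⟩ : ULift.{u} (Fin (n + 1)))) (Spec (CommRingCat.of κ))
  let W : (AffineSpace (ULift.{u} (Fin (n + 1))) (Spec (CommRingCat.of κ))).Opens := r ⁻¹ᵁ V'
  let T : Over (Spec (CommRingCat.of κ)) := Over.mk (W.ι ≫ (AffineSpace (ULift.{u} (Fin (n + 1))) (Spec (CommRingCat.of κ)) ↘ (Spec (CommRingCat.of κ))))
  let sg : T ⟶ G := Over.homMk ((r ∣_ V') ≫ l ≫ s) (by
    show ((r ∣_ V') ≫ l ≫ s) ≫ G.hom = W.ι ≫ _
    rw [← Over.w q]
    simp only [Category.assoc]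
    rw [reassoc_of% hs, reassoc_of% hl, hψ', reassoc_of% hjι, morphismRestrict_ι_assoc, AffineSpace.reindex_over])
  let a : Γ(T.left, ⊤) :=
    W.ι.appTop (AffineSpace.coord (Spec (CommRingCat.of κ)) (⟨Fin.last n⟩ : ULift.{u} (Fin (n + 1))))
  let F : T ⟶ G := (RedPts.gaPt a ≫ i) * sg
  -- every point over the chart is reached
  have hsub : q.left ⁻¹' Set.range (j ≫ ψ) ⊆ Set.range F.left := by
    rintro x ⟨v, hv⟩
    obtain ⟨z, hzx, hzv⟩ := Scheme.Pullback.exists_preimage_pullback (f := q.left) (g := j ≫ ψ) x v hv.symm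
    let P := pullback q.left (j ≫ ψ)
    let L : Scheme.{u} := Spec (P.residueField z)
    let zg : L ⟶ G.left := P.fromSpecResidueField z ≫ pullback.fst q.left (j ≫ ψ)
    let zv : L ⟶ (V' : Scheme.{u}) := P.fromSpecResidueField z ≫ pullback.snd q.left (j ≫ ψ)
    have hz : zg ≫ q.left = zv ≫ j ≫ ψ := by
      simp only [zg, zv, Category.assoc]; rw [pullback.condition]
    let TL : Over (Spec (CommRingCat.of κ)) := Over.mk (zg ≫ G.hom)
    let g : TL ⟶ G := Over.homMk zg rfl
    let h : TL ⟶ G := Over.homMk (zv ≫ l ≫ s) (by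
      show (zv ≫ l ≫ s) ≫ G.hom = zg ≫ G.hom
      rw [← Over.w q]
      simp only [zg, zv, Category.assoc] at hz ⊢
      rw [reassoc_of% hs, reassoc_of% hl]
      exact (reassoc_of% hz) Q.hom |>.symm)
    have hgh : g ≫ q = h ≫ q := Over.OverMorphism.ext (by
      show zg ≫ q.left = (zv ≫ l ≫ s) ≫ q.left
      simp only [zg, zv, Category.assoc] at hz ⊢
      rw [hs, hl]
      exact hz)
    obtain ⟨m, hm⟩ := GrpSchField.exists_lift_of_comp_eq_one hker (g * h⁻¹) (by
      rw [MonObj.mul_comp, GrpObj.inv_comp, hgh, mul_inv_cancel])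
    let vec : ULift.{u} (Fin (n + 1)) → Γ(L, ⊤) := fun t =>
      Fin.lastCases (Red.gaFn m)
        (fun t' => (zv ≫ V'.ι).appTop (AffineSpace.coord (Spec (CommRingCat.of κ)) (⟨t'⟩ : ULift.{u} (Fin n)))) t.down
    let w : L ⟶ AffineSpace (ULift.{u} (Fin (n + 1))) (Spec (CommRingCat.of κ)) := AffineSpace.homOfVector (zg ≫ G.hom) vec
    have hwr : w ≫ r = zv ≫ V'.ι := by
      apply AffineSpace.hom_ext
      · simp only [w, r, Category.assoc, AffineSpace.reindex_over, AffineSpace.homOfVector_over]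
        rw [← hjι, ← Over.w q]
        simp only [Category.assoc]
        rw [← hψ']
        exact (reassoc_of% hz) Q.hom
      · intro t
        rw [Scheme.Hom.comp_appTop, CommRingCat.comp_apply]
        simp only [r]
        rw [AffineSpace.reindex_appTop_coord]
        simp only [w]
        rw [AffineSpace.homOfVector_appTop_coord]
        simp [vec]
    have hwrange : Set.range w ⊆ Set.range W.ι := by
      rintro _ ⟨y, rfl⟩
      rw [Scheme.Opens.range_ι]
      show r (w y) ∈ V'
      rw [← Scheme.Hom.comp_apply, hwr, Scheme.Hom.comp_apply]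
      exact (zv y).2
    let lw : L ⟶ (W : Scheme.{u}) := IsOpenImmersion.lift W.ι w hwrange
    have hlw : lw ≫ W.ι = w := IsOpenImmersion.lift_fac _ _ _
    let gw : TL ⟶ T := Over.homMk lw (by
      show lw ≫ W.ι ≫ _ = zg ≫ G.hom
      rw [reassoc_of% hlw, AffineSpace.homOfVector_over])
    have h1 : gw ≫ RedPts.gaPt a = m := by
      apply RedPts.gaFn_injective
      rw [RedPts.gaFn_comp, RedPts.gaFn_gaPt]
      show lw.appTop (W.ι.appTop _) = _
      rw [← CommRingCat.comp_apply, ← Scheme.Hom.comp_appTop, hlw, AffineSpace.homOfVector_appTop_coord]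
      simp [vec]
    have h2 : gw ≫ sg = h := Over.OverMorphism.ext (by
      show lw ≫ (r ∣_ V') ≫ l ≫ s = zv ≫ l ≫ s
      rw [← Category.assoc]
      congr 1
      rw [← cancel_mono V'.ι, Category.assoc, morphismRestrict_ι, reassoc_of% hlw, hwr])
    have h3 : gw ≫ F = g := by
      simp only [F]
      rw [MonObj.comp_mul, reassoc_of% h1, h2, hm, inv_mul_cancel_right]
    refine ⟨lw (IsLocalRing.closedPoint _), ?_⟩
    have h4 : lw ≫ F.left = zg := congrArg CommaMorphism.left h3
    refine Eq.trans (congrArg (fun t : L ⟶ G.left => t (IsLocalRing.closedPoint _)) h4) ?_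
    show pullback.fst q.left (j ≫ ψ) (P.fromSpecResidueField z (IsLocalRing.closedPoint _)) = x
    rw [Scheme.fromSpecResidueField_apply]
    exact hzx
  -- density
  haveI : LocallyOfFiniteType (q.left ≫ Q.hom) := by rw [Over.w q]; infer_instance
  haveI : LocallyOfFiniteType q.left := locallyOfFiniteType_of_comp q.left Q.hom
  haveI : IsLocallyNoetherian Q.left := LocallyOfFiniteType.isLocallyNoetherian Q.hom
  haveI : LocallyOfFinitePresentation q.left :=
    GrothLib.LocProp.locallyOfFinitePresentation_of_isLocallyNoetherian _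
  have hV'ne : (V' : Set ↥(AffineSpace (ULift.{u} (Fin n)) (Spec (CommRingCat.of κ)))).Nonempty :=
    ⟨v₀, ⟨v₀, hv₀⟩, hvU, rfl⟩
  have hdense : Dense (Set.range (j ≫ ψ)) := by
    have hj : DenseRange j := by
      have hd : Dense (V' : Set ↥(AffineSpace (ULift.{u} (Fin n)) (Spec (CommRingCat.of κ)))) := V'.2.dense hV'ne
      intro x
      rw [V.ι.isOpenEmbedding.isInducing.closure_eq_preimage_closure_image, ← Set.range_comp]
      have : Set.range (V.ι ∘ j) = V' := by
        rw [← TopCat.coe_comp, ← Scheme.Hom.comp_base, hjι]; exact Scheme.Opens.range_ι _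
      show V.ι x ∈ closure _
      rw [this]
      exact hd _
    have := hψ.comp hj ψ.continuous
    rwa [Scheme.Hom.comp_base, TopCat.coe_comp]
  refine ⟨n + 1, W, F.left, ?_, (hdense.preimage q.left.isOpenMap).mono hsub, Over.w F⟩
  obtain ⟨v, hv⟩ := hV'ne
  haveI : Surjective r := ⟨fun y => by
    let zL := (AffineSpace (ULift.{u} (Fin n)) (Spec (CommRingCat.of κ))).fromSpecResidueField y
    let vec' : ULift.{u} (Fin (n + 1)) → Γ(Spec ((AffineSpace (ULift.{u} (Fin n)) (Spec (CommRingCat.of κ))).residueField y), ⊤) := fun t =>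
      Fin.lastCases 0 (fun t' => zL.appTop (AffineSpace.coord (Spec (CommRingCat.of κ)) (⟨t'⟩ : ULift.{u} (Fin n)))) t.down
    let w := AffineSpace.homOfVector (zL ≫ (AffineSpace (ULift.{u} (Fin n)) (Spec (CommRingCat.of κ)) ↘ (Spec (CommRingCat.of κ)))) vec'
    have hw : w ≫ r = zL := by
      apply AffineSpace.hom_ext
      · simp only [w, r, Category.assoc, AffineSpace.reindex_over, AffineSpace.homOfVector_over]
      · intro t
        rw [Scheme.Hom.comp_appTop, CommRingCat.comp_apply]
        simp only [r]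
        rw [AffineSpace.reindex_appTop_coord]
        simp only [w]
        rw [AffineSpace.homOfVector_appTop_coord]
        simp [vec']
    exact ⟨w (IsLocalRing.closedPoint _), by
      rw [← Scheme.Hom.comp_apply, hw]; exact Scheme.fromSpecResidueField_apply _ _⟩⟩
  obtain ⟨w, hw⟩ := r.surjective v
  exact ⟨w, show r w ∈ V' from hw ▸ hv⟩

end GrothLib.UnirGaExt24
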